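import Mathlib.FieldTheory.KummerPolynomial
import Mathlib.RingTheory.Trace.Basic
import Mathlib.RingTheory.RootsOfUnity.PrimitiveRoots

/-!
# Independent radicals of prime exponent
-/

universe u v w

namespace Groth.Agent.AVRed

open Polynomial Module

variable {F : Type u} {K : Type v} [Field F] [Field K] [Algebra F K]

/-- An element outside `F` with `ℓ`-th power in `F` has trace zero, the `ℓ`-th roots of unity being in `F`. -/
theorem trace_eq_zero_of_pow_mem [FiniteDimensional F K] {ℓ : ℕ} (hℓ : ℓ.Prime) {ζ : F}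
    (hζ : IsPrimitiveRoot ζ ℓ) {x : K} (hx : x ∉ (algebraMap F K).range) {a : F}
    (ha : algebraMap F K a = x ^ ℓ) : Algebra.trace F K x = 0 := by
  have hno : ∀ b : F, b ^ ℓ ≠ a := fun b hb => by
    refine hx ?_
    by_cases hb0 : b = 0
    · refine ⟨0, ?_⟩
      rw [map_zero, eq_comm]
      rw [← hb, hb0, zero_pow hℓ.ne_zero, map_zero] at ha
      exact eq_zero_of_pow_eq_zero ha.symm
    have hK := hζ.map_of_injective (f := algebraMap F K) (algebraMap F K).injective
    have : NeZero ℓ := ⟨hℓ.ne_zero⟩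
    have h1 : (x / algebraMap F K b) ^ ℓ = 1 := by
      rw [div_pow, ← ha, ← hb, map_pow, div_self (pow_ne_zero _ ((_root_.map_ne_zero _).2 hb0))]
    obtain ⟨i, -, hi⟩ := hK.eq_pow_of_pow_eq_one h1
    exact ⟨b * ζ ^ i, by rw [map_mul, map_pow, hi, mul_div_cancel₀ _ ((_root_.map_ne_zero _).2 hb0)]⟩
  have hmin : minpoly F x = X ^ ℓ - C a := by
    refine (minpoly.eq_of_irreducible_of_monic (X_pow_sub_C_irreducible_of_prime hℓ hno) ?_
      (monic_X_pow_sub_C a hℓ.ne_zero)).symm
    simp [ha]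
  rw [trace_eq_finrank_mul_minpoly_nextCoeff, hmin]
  have hc : (X ^ ℓ - C a : F[X]).nextCoeff = 0 := by
    rw [nextCoeff_of_natDegree_pos (by rw [natDegree_X_pow_sub_C]; exact hℓ.pos), natDegree_X_pow_sub_C,
      coeff_sub, coeff_X_pow, if_neg (by have := hℓ.pos; omega), coeff_C, if_neg (by have := hℓ.two_le; omega), sub_zero]
  rw [hc, neg_zero, mul_zero]

/-- Radicals of exponent `ℓ` with ratios outside `F` are at most `[K : F]` many. -/
theorem card_le_of_radical [FiniteDimensional F K] {ℓ : ℕ} (hℓ : ℓ.Prime) {ζ : F}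
    (hζ : IsPrimitiveRoot ζ ℓ) (hd : (finrank F K : F) ≠ 0) {ι : Type w} [Fintype ι] (f : ι → K)
    (hf0 : ∀ i, f i ≠ 0) (hpow : ∀ i, f i ^ ℓ ∈ (algebraMap F K).range)
    (hne : ∀ i j, i ≠ j → f i / f j ∉ (algebraMap F K).range) : Fintype.card ι ≤ finrank F K := by
  classical
  refine (Fintype.linearIndependent_iff.2 fun c hc j => ?_ : LinearIndependent F f).fintype_card_le_finrank
  have h : ∑ i, c i • (f i / f j) = 0 := by
    simp only [div_eq_mul_inv, ← smul_mul_assoc, ← Finset.sum_mul, hc, zero_mul]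
  have h2 := congrArg (Algebra.trace F K) h
  rw [map_sum, map_zero, Finset.sum_eq_single j (fun i _ hij => by
    obtain ⟨a, ha⟩ := hpow i
    obtain ⟨b, hb⟩ := hpow j
    rw [map_smul, trace_eq_zero_of_pow_mem hℓ hζ (hne i j hij) (a := a / b) (by
      rw [map_div₀, ha, hb, div_pow]), smul_zero]) (by simp), map_smul, div_self (hf0 j),
    ← map_one (algebraMap F K), Algebra.trace_algebraMap, smul_eq_mul, nsmul_eq_mul, _root_.mul_one] at h2
  exact (mul_eq_zero.1 h2).resolve_right hd

end Groth.Agent.AVRed
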