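import Groth.Agent.ThetaH3.SeesawAll
import Groth.Agent.ThetaH3.Field
import Groth.Agent.H23.CubeAb
import Groth.Agent.GrpSchLib.MonoSubgroup
import Groth.Agent.Lib.AVPair

/-!
# The orthogonal of an abelian subvariety with respect to a line bundle
-/

set_option autoImplicit false
set_option linter.style.haveILetI false
set_option linter.unusedSectionVars false
set_option backward.isDefEq.respectTransparency false
set_option backward.isDefEq.respectTransparency.types false
set_option maxHeartbeats 1000000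

universe u

open CategoryTheory CategoryTheory.Limits MonoidalCategory CartesianMonoidalCategory MonObj AlgebraicGeometry

namespace Groth.Agent.AVRed

open Groth.Agent.H23 Groth.Agent.H23.TrivBasic Groth.Agent.AVPair
open Groth.Agent.PicfLib.Seesaw (LocTriv)
open Groth.Agent.ThetaH3 (restr restrι)
open scoped Groth.Agent.H23.PicMul

variable {k : Type u} [Field k] {A B : Over (Spec (CommRingCat.of k))} [GrpObj A]

/-- The point `w` is orthogonal to `B` for the class `c`. -/
def Orth (i : B ⟶ A) (c : PicF.Cl A.left) {W : Over (Spec (CommRingCat.of k))} (w : W ⟶ A) : Prop :=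
  pl ((fst B W ≫ i) * (snd B W ≫ w)) c = pl (fst B W ≫ i) c * pl (snd B W ≫ w) c

variable {i : B ⟶ A} {c : PicF.Cl A.left}

theorem Orth.comp {W W' : Over (Spec (CommRingCat.of k))} {w : W ⟶ A} (h : Orth i c w) (g : W' ⟶ W) :
    Orth i c (g ≫ w) := by
  have := congrArg (pl (B ◁ g)) h
  simp only [map_mul, pl_pl, MonObj.comp_mul, whiskerLeft_fst_assoc, whiskerLeft_snd_assoc] at this
  exact this

variable [IsProper A.hom] [GeometricallyIntegral A.hom]

theorem orth_one (hc : PicF.IsInvertibleCl c) (W : Over (Spec (CommRingCat.of k))) :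
    Orth i c (1 : W ⟶ A) := by
  rw [Orth, MonObj.comp_one, _root_.mul_one, show pl (1 : B ⊗ W ⟶ A) c = 1 from pl_const hc η, _root_.mul_one]

theorem Orth.mul (hc : PicF.IsInvertibleCl c) {W : Over (Spec (CommRingCat.of k))} {w w' : W ⟶ A}
    (h : Orth i c w) (h' : Orth i c w') : Orth i c (w * w') := by
  let f := fst B W ≫ i
  let g := snd B W ≫ w
  let g' := snd B W ≫ w'
  show pl (f * (snd B W ≫ (w * w'))) c = pl f c * pl (snd B W ≫ (w * w')) c
  have hq : pl (f * g * g') c * pl f c * pl g c * pl g' c = pl (f * g) c * pl (f * g') c * pl (g * g') c :=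
    CubeAb.cube hc f g g'
  rw [show pl (f * g) c = pl f c * pl g c from h, show pl (f * g') c = pl f c * pl g' c from h'] at hq
  rw [MonObj.comp_mul, ← _root_.mul_assoc]
  refine ((PicMul.isUnit_of_isInvertibleCl (isInv_pl f hc)).mul
    ((PicMul.isUnit_of_isInvertibleCl (isInv_pl g hc)).mul (PicMul.isUnit_of_isInvertibleCl (isInv_pl g' hc)))).mul_left_injective ?_
  show pl (f * g * g') c * (pl f c * (pl g c * pl g' c)) = pl f c * pl (g * g') c * (pl f c * (pl g c * pl g' c))
  calc pl (f * g * g') c * (pl f c * (pl g c * pl g' c))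
      = pl (f * g * g') c * pl f c * pl g c * pl g' c := by simp only [_root_.mul_assoc]
    _ = pl f c * pl g c * (pl f c * pl g' c) * pl (g * g') c := hq
    _ = _ := by ac_rfl

theorem Orth.inv (hc : PicF.IsInvertibleCl c) {W : Over (Spec (CommRingCat.of k))} {w : W ⟶ A}
    (h : Orth i c w) : Orth i c w⁻¹ := by
  let f := fst B W ≫ i
  let g := snd B W ≫ w
  show pl (f * (snd B W ≫ w⁻¹)) c = pl f c * pl (snd B W ≫ w⁻¹) c
  rw [GrpObj.comp_inv]
  change pl (f * g⁻¹) c = pl f c * pl g⁻¹ c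
  have h1 : pl (1 : B ⊗ W ⟶ A) c = 1 := pl_const hc η
  have hq : pl (f * g * g⁻¹) c * pl f c * pl g c * pl g⁻¹ c = pl (f * g) c * pl (f * g⁻¹) c * pl (g * g⁻¹) c :=
    CubeAb.cube hc f g g⁻¹
  rw [show pl (f * g) c = pl f c * pl g c from h, mul_inv_cancel_right, mul_inv_cancel, h1, _root_.mul_one] at hq
  refine ((PicMul.isUnit_of_isInvertibleCl (isInv_pl f hc)).mul
    (PicMul.isUnit_of_isInvertibleCl (isInv_pl g hc))).mul_right_injective ?_
  show pl f c * pl g c * pl (f * g⁻¹) c = pl f c * pl g c * (pl f c * pl g⁻¹ c)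
  rw [← hq]
  ac_rfl

/-- Orthogonality, locally on the parameter. -/
def OrthLoc (i : B ⟶ A) (c : PicF.Cl A.left) {W : Over (Spec (CommRingCat.of k))} (w : W ⟶ A) : Prop :=
  ∀ t : ↥W.left, ∃ U : W.left.Opens, t ∈ U ∧ Orth i c (restrι W U ≫ w)

theorem Orth.orthLoc {W : Over (Spec (CommRingCat.of k))} {w : W ⟶ A} (h : Orth i c w) : OrthLoc i c w :=
  fun t => ⟨⊤, trivial, h.comp _⟩

omit [IsProper A.hom] [GeometricallyIntegral A.hom] in
theorem restrι_le {W : Over (Spec (CommRingCat.of k))} {U V : W.left.Opens} (h : V ≤ U) :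
    (Over.homMk (W.left.homOfLE h) (by simp) : restr W V ⟶ restr W U) ≫ restrι W U = restrι W V := by
  ext : 1
  simp

omit [IsProper A.hom] [GeometricallyIntegral A.hom] in
theorem Orth.restrict {W : Over (Spec (CommRingCat.of k))} {w : W ⟶ A} {U V : W.left.Opens} (h : V ≤ U)
    (hU : Orth i c (restrι W U ≫ w)) : Orth i c (restrι W V ≫ w) := by
  rw [← restrι_le h, Category.assoc]
  exact hU.comp _

theorem OrthLoc.mul (hc : PicF.IsInvertibleCl c) {W : Over (Spec (CommRingCat.of k))} {w w' : W ⟶ A}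
    (h : OrthLoc i c w) (h' : OrthLoc i c w') : OrthLoc i c (w * w') := fun t => by
  obtain ⟨U, hU, e⟩ := h t
  obtain ⟨U', hU', e'⟩ := h' t
  refine ⟨U ⊓ U', ⟨hU, hU'⟩, ?_⟩
  rw [MonObj.comp_mul]
  exact (e.restrict inf_le_left).mul hc (e'.restrict inf_le_right)

theorem OrthLoc.inv (hc : PicF.IsInvertibleCl c) {W : Over (Spec (CommRingCat.of k))} {w : W ⟶ A}
    (h : OrthLoc i c w) : OrthLoc i c w⁻¹ := fun t => by
  obtain ⟨U, hU, e⟩ := h t
  refine ⟨U, hU, ?_⟩
  rw [GrpObj.comp_inv]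
  exact e.inv hc

/-- Triviality over `B ×_S W` computed through the pullback of the second projection. -/
theorem triv_pullback_snd_iff {W : Over (Spec (CommRingCat.of k))} (M : (B ⊗ A).left.Modules) (w : W ⟶ A) :
    Triv ((Scheme.Modules.pullback (pullback.fst (snd B A).left w.left)).obj M) ↔
      Triv ((Scheme.Modules.pullback (B ◁ w).left).obj M) := by
  refine ⟨SeesawGlobal.triv_of_factor
    (pullback.lift (B ◁ w).left (snd B W).left (by rw [← Over.comp_left, whiskerLeft_snd, Over.comp_left]))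
    (pullback.lift_fst _ _ _), fun h => ?_⟩
  let P : Over (Spec (CommRingCat.of k)) := Over.mk (pullback.snd (snd B A).left w.left ≫ W.hom)
  let c₁ : P ⟶ B ⊗ A := Over.homMk (pullback.fst (snd B A).left w.left) (by
    show _ = pullback.snd (snd B A).left w.left ≫ W.hom
    rw [← Over.w w, ← Category.assoc, ← pullback.condition, Category.assoc, Over.w (snd B A)])
  let c₂ : P ⟶ W := Over.homMk (pullback.snd (snd B A).left w.left) rfl
  have hc : c₁ ≫ snd B A = c₂ ≫ w := Over.OverMorphism.ext pullback.condition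
  have he : lift (c₁ ≫ fst B A) c₂ ≫ B ◁ w = c₁ := by
    apply CartesianMonoidalCategory.hom_ext
    · simp
    · simpa using hc.symm
  exact SeesawGlobal.triv_of_factor (lift (c₁ ≫ fst B A) c₂).left
    (by rw [← Over.comp_left, he]; rfl) h

/-- The orthogonal is a closed subgroup scheme. -/
theorem exists_orth [IsProper B.hom] [GeometricallyIntegral B.hom] (i : B ⟶ A) {c : PicF.Cl A.left}
    (hc : PicF.IsInvertibleCl c) :
    ∃ (Z : Over (Spec (CommRingCat.of k))) (_ : GrpObj Z) (j : Z ⟶ A), IsMonHom j ∧ IsClosedImmersion j.left ∧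
      ∀ (W : Over (Spec (CommRingCat.of k))) (w : W ⟶ A), (∃ y : W ⟶ Z, y ≫ j = w) ↔ OrthLoc i c w := by
  let f := (snd B A).left
  haveI : IsProper f := inferInstanceAs (IsProper (pullback.snd B.hom A.hom))
  haveI : Flat f := inferInstanceAs (Flat (pullback.snd B.hom A.hom))
  haveI : GeometricallyIntegral f := inferInstanceAs (GeometricallyIntegral (pullback.snd B.hom A.hom))
  haveI : IsLocallyNoetherian A.left := LocallyOfFiniteType.isLocallyNoetherian A.hom
  obtain ⟨d, hd, hdp⟩ := exists_inv (PicMul.isInvertibleCl_mul (isInv_pl (fst B A ≫ i) hc) (isInv_pl (snd B A) hc))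
  obtain ⟨M, hMd, hM⟩ := PicMul.isInvertibleCl_mul (isInv_pl ((fst B A ≫ i) * snd B A) hc) hd
  have key : ∀ {W : Over (Spec (CommRingCat.of k))} (w : W ⟶ A),
      Triv ((Scheme.Modules.pullback (pullback.fst f w.left)).obj M) ↔ Orth i c w := by
    intro W w
    rw [triv_pullback_snd_iff, triv_iff, hMd, map_mul, Orth]
    have e1 : pl (B ◁ w) (pl ((fst B A ≫ i) * snd B A) c) = pl ((fst B W ≫ i) * (snd B W ≫ w)) c := by
      rw [pl_pl, MonObj.comp_mul, whiskerLeft_fst_assoc, whiskerLeft_snd]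
    have e2 := congrArg (pl (B ◁ w)) hdp
    simp only [map_mul, map_one, pl_pl, whiskerLeft_fst_assoc, whiskerLeft_snd] at e2
    rw [e1]
    exact ⟨fun h => eq_of_mul_inv e2 h, fun h => by rw [h, e2]⟩
  obtain ⟨Z, j, hj, hZ⟩ := ThetaH3.SeesawAll.exists_seesaw_all f M hM fun T u => by
    show Function.Injective (pullback.snd (pullback.snd B.hom A.hom) u).appTop
    rw [← pullbackLeftPullbackSndIso_hom_snd B.hom A.hom u, Scheme.Hom.comp_appTop]
    exact (SeesawGlobal.bijective_appTop_iso (pullbackLeftPullbackSndIso B.hom A.hom u)).1.comp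
      (Rigid.bijective_app_snd B.hom (u ≫ A.hom) ⊤).1
  let Zk : Over (Spec (CommRingCat.of k)) := Over.mk (j ≫ A.hom)
  let jk : Zk ⟶ A := Over.homMk j rfl
  have hfac : ∀ (W : Over (Spec (CommRingCat.of k))) (w : W ⟶ A),
      (∃ y : W ⟶ Zk, y ≫ jk = w) ↔ OrthLoc i c w := by
    intro W w
    have hloc : LocTriv f M w.left ↔ OrthLoc i c w :=
      forall_congr' fun t => exists_congr fun U => and_congr_right fun _ => key (restrι W U ≫ w)
    constructor
    · rintro ⟨y, rfl⟩
      exact hloc.1 ((hZ W.left _).1 ⟨y.left, rfl⟩)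
    · intro h
      obtain ⟨u', hu'⟩ := (hZ W.left w.left).2 (hloc.2 h)
      exact ⟨Over.homMk u' (by show u' ≫ j ≫ A.hom = _; rw [reassoc_of% hu', Over.w w]),
        Over.OverMorphism.ext hu'⟩
  haveI : IsClosedImmersion jk.left := hj
  haveI : Mono jk := (Over.forget _).mono_of_mono_map (inferInstanceAs (Mono jk.left))
  have hjk : OrthLoc i c jk := (hfac _ _).1 ⟨𝟙 _, Category.id_comp _⟩
  obtain ⟨η', hη'⟩ := (hfac _ η[A]).2 (by
    rw [show η[A] = (1 : 𝟙_ _ ⟶ A) by rw [Hom.one_def, toUnit_unique (toUnit _) (𝟙 _), Category.id_comp]]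
    exact (orth_one hc _).orthLoc)
  obtain ⟨μ', hμ'⟩ := (hfac _ ((fst Zk Zk ≫ jk) * (snd Zk Zk ≫ jk))).2
    (((hfac _ _).1 ⟨fst Zk Zk, rfl⟩).mul hc ((hfac _ _).1 ⟨snd Zk Zk, rfl⟩))
  obtain ⟨ι', hι'⟩ := (hfac _ jk⁻¹).2 (hjk.inv hc)
  obtain ⟨str, hstr⟩ := GrpSchLib.exists_grpObj_of_mono jk η' hη' μ' hμ' ι' hι'
  exact ⟨Zk, str, jk, hstr, hj, hfac⟩

end Groth.Agent.AVRed
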