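import Groth.Agent.AVRed.Radical
import Groth.Agent.AVDegLib.MulN
import Groth.Agent.Lib.AVSeesaw
import Groth.Agent.Lib.AVPair
import Mathlib.RingTheory.RootsOfUnity.AlgebraicallyClosed

/-!
# Translation invariant classes of prime exponent are at most `ℓ^(2g)` many
-/

noncomputable section

set_option linter.style.haveILetI false
set_option linter.unusedSectionVars false
set_option backward.isDefEq.respectTransparency false
set_option backward.isDefEq.respectTransparency.types false
set_option maxHeartbeats 1000000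
set_option autoImplicit false

universe u

open CategoryTheory MonoidalCategory CartesianMonoidalCategory MonObj AlgebraicGeometry

namespace Groth.Agent.AVRed

open Groth.Agent.H23 Groth.Agent.AVCube Groth.Agent.AVDegLib
open scoped Groth.Agent.H23.PicMul

variable {k : Type u} [Field k] [IsAlgClosed k] {A : Over (Spec (CommRingCat.of k))} [GrpObj A]
  [IsProper A.hom] [GeometricallyIntegral A.hom]

/-- A translation invariant class pulls back along `[n]` to its `n`-th power. -/
theorem pl_pow_of_invariant {c : PicF.Cl A.left} (hc : PicF.IsInvertibleCl c)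
    (h : ∀ a : 𝟙_ (Over (Spec (CommRingCat.of k))) ⟶ A, AVPair.pl (𝟙 A * (toUnit A ≫ a)) c = c) (n : ℕ) :
    AVPair.pl (𝟙 A ^ n) c = c ^ n := by
  obtain ⟨L, rfl, hL⟩ := hc
  have h' : ∀ a : 𝟙_ (Over (Spec (CommRingCat.of k))) ⟶ A, pc hL (𝟙 A * (toUnit A ≫ a)) = pc hL (𝟙 A) := fun a =>
    Units.ext ((h a).trans (val_pc_id hL).symm)
  have key : pc hL (𝟙 A ^ n) = pc hL (𝟙 A) ^ n := by
    induction n with
    | zero => rw [_root_.pow_zero, _root_.pow_zero, pc_one]
    | succ n ih => rw [_root_.pow_succ, _root_.pow_succ, add_of_invariant hL h', ih]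
  have := congrArg Units.val key
  rwa [Units.val_pow_eq_pow_val, val_pc_id] at this

/-- At most degree many classes are killed both by a finite flat surjection and by a prime `l` not dividing zero. -/
theorem card_le_degree {A B : Over (Spec (CommRingCat.of k))} [IsIntegral A.left] [IsIntegral B.left]
    (φ : A ⟶ B) [IsFinite φ.left] [Flat φ.left] [LocallyOfFinitePresentation φ.left] [Surjective φ.left]
    (hA : Function.Bijective A.hom.appTop) {d : ℕ} (hd : φ.left.finrank (genericPoint B.left) = d) (hdk : (d : k) ≠ 0)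
    {l : ℕ} (hl : l.Prime) (hlk : (l : k) ≠ 0)
    (s : Finset (PicF.Cl B.left)) (hs : ∀ c ∈ s, PicF.IsInvertibleCl c ∧ AVPair.pl φ c = 1 ∧ c ^ l = 1) :
    s.card ≤ d := by
  letI := ffExt φ
  haveI := finiteDimensional_ff φ
  haveI := isScalarTower_ff φ
  rw [finrank_eq φ] at hd
  have hd' : (Module.finrank B.left.functionField A.left.functionField : B.left.functionField) ≠ 0 := by
    rw [hd, ← map_natCast (algebraMap k B.left.functionField)]
    exact (_root_.map_ne_zero _).2 hdk
  haveI : NeZero (l : k) := ⟨hlk⟩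
  haveI : NeZero l := ⟨hl.ne_zero⟩
  obtain ⟨ζ, hζ⟩ := HasEnoughRootsOfUnity.exists_primitiveRoot k l
  have hrad : ∀ c : s, ∃ (L : B.left.Modules) (β : GenFrame L) (f : A.left.functionField),
      PicF.cl L = c.1 ∧ PicF.IsInvertible L ∧ f ≠ 0 ∧ f ^ l ∈ (ffMap φ).range ∧
      ∀ (U : B.left.Opens) (hU : genericPoint B.left ∈ U) (e : Γ(L, U)), InvX.IsFrame e →
        UnitOn A (φ.left ⁻¹ᵁ U) (f / ffMap φ (rho β hU e)) := fun ⟨c, hc⟩ => by
    obtain ⟨⟨L, rfl, hL⟩, h1, h2⟩ := hs c hc
    obtain ⟨U, hU, e, he⟩ := InvX.exists_frame hL (genericPoint B.left)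
    obtain ⟨f, hf0, hfl, hf⟩ := exists_radical φ hA hL ⟨U, e, he, hU⟩ ((AVPair.triv_iff φ).2 h1)
      (show TrivBasic.Triv (CohB1.tensorPow L l) from
        (PicGrp.cl_eq_cl_iff _ _).1 ((PicMul.cl_tensorPow _ _).trans h2))
    exact ⟨L, ⟨U, e, he, hU⟩, f, rfl, hL, hf0, hfl, hf⟩
  choose L β f hcl hinv hf0 hfl hf using hrad
  rw [← hd, ← Fintype.card_coe]
  refine card_le_of_radical hl (ζ := algebraMap k B.left.functionField ζ)
    (hζ.map_of_injective (algebraMap k B.left.functionField).injective) hd' f hf0 hfl fun i j hij hr => hij ?_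
  obtain ⟨iso⟩ := nonempty_iso_of_radical φ (hinv i) (hinv j) (β i) (β j) (hf0 i) (hf0 j) (hf i) (hf j) hr
  exact Subtype.ext ((hcl i).symm.trans (((PicGrp.cl_eq_cl_iff _ _).2 ⟨iso⟩).trans (hcl j)))

theorem card_le {g : ℕ} (hg : topologicalKrullDim A.left = g) {l : ℕ} (hl : l.Prime) (hlk : (l : k) ≠ 0)
    (s : Finset (PicF.Cl A.left)) (hs : ∀ c ∈ s, PicF.IsInvertibleCl c ∧
      (∀ a : 𝟙_ (Over (Spec (CommRingCat.of k))) ⟶ A, AVPair.pl (𝟙 A * (toUnit A ≫ a)) c = c) ∧ c ^ l = 1) :
    s.card ≤ l ^ (2 * g) := by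
  haveI : IsIntegral A.left := GeometricallyIntegral.isIntegral_of_subsingleton A.hom
  obtain ⟨hfin, hflat, hsurj⟩ := zpow_props (A := A) (l : ℤ) (by exact_mod_cast hl.ne_zero)
  haveI := lfp_endo (𝟙 A ^ (l : ℤ))
  haveI : GeometricallyConnected A.hom := CubeAb.geometricallyConnected_of_integral A.hom
  refine card_le_degree (𝟙 A ^ (l : ℤ)) (CubeField.bijective_appTop_of_connected A)
    ((finrank_zpow (A := A) hg (l : ℤ) (by exact_mod_cast hl.ne_zero) _).trans (by rw [Int.natAbs_natCast]))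
    (by rw [Nat.cast_pow]; exact pow_ne_zero _ hlk) hl hlk s fun c hc => ⟨(hs c hc).1, ?_, (hs c hc).2.2⟩
  rw [zpow_natCast, pl_pow_of_invariant (hs c hc).1 (hs c hc).2.1, (hs c hc).2.2]

end Groth.Agent.AVRed
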