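import Groth.Agent.AVRed.Kummer
import Groth.Agent.AVDegLib.Pull
import Groth.Agent.AVDegLib.Ratio
import Groth.Agent.Para81.FrameGlue
import Groth.Agent.Pn90.Pic

/-!
# Torsion classes killed by a pullback give radicals in the function field
-/

noncomputable section

set_option linter.style.haveILetI false
set_option linter.unusedSectionVars false
set_option backward.isDefEq.respectTransparency false
set_option backward.isDefEq.respectTransparency.types false
set_option maxHeartbeats 1000000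
set_option autoImplicit false

universe u

open CategoryTheory CategoryTheory.Limits AlgebraicGeometry TopologicalSpace Opposite

namespace Groth.Agent.AVRed

open Groth.Agent.InvX Groth.Agent.AModX Groth.Agent.AVDegLib Groth.Agent.H23.TrivBasic

variable {k : Type u} [Field k] {A B : Over (Spec (CommRingCat.of k))} [IsIntegral A.left] [IsIntegral B.left]

/-- `z` and `z⁻¹` are regular on `U`. -/
def UnitOn (A : Over (Spec (CommRingCat.of k))) [IsIntegral A.left] (U : A.left.Opens) (z : A.left.functionField) : Prop :=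
  z ∈ sect A U ∧ z⁻¹ ∈ sect A U

theorem UnitOn.mul {U : A.left.Opens} {z w : A.left.functionField} (hz : UnitOn A U z) (hw : UnitOn A U w) :
    UnitOn A U (z * w) := ⟨mul_mem hz.1 hw.1, by rw [mul_inv]; exact mul_mem hz.2 hw.2⟩

theorem UnitOn.inv {U : A.left.Opens} {z : A.left.functionField} (hz : UnitOn A U z) : UnitOn A U z⁻¹ :=
  ⟨hz.2, by rw [inv_inv]; exact hz.1⟩

theorem UnitOn.pow {U : A.left.Opens} {z : A.left.functionField} (hz : UnitOn A U z) (n : ℕ) : UnitOn A U (z ^ n) :=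
  ⟨pow_mem hz.1 n, by rw [← inv_pow]; exact pow_mem hz.2 n⟩

variable (φ : A ⟶ B) [IsFinite φ.left] [Surjective φ.left]

theorem UnitOn.pull {U : B.left.Opens} (h : genericPoint B.left ∈ U) {z : B.left.functionField} (hz : UnitOn B U z) :
    UnitOn A (φ.left ⁻¹ᵁ U) (ffMap φ z) := by
  have key : ∀ w ∈ sect B U, ffMap φ w ∈ sect A (φ.left ⁻¹ᵁ U) := fun w hw => by
    obtain ⟨a, rfl⟩ := hw h
    rw [ffMap_gm]
    exact gm_mem_sect _ _
  exact ⟨key z hz.1, by rw [← map_inv₀]; exact key _ hz.2⟩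

theorem unitOn_ratio {L : A.left.Modules} (β : GenFrame L) {U V : A.left.Opens} (hU : genericPoint A.left ∈ U)
    (hV : genericPoint A.left ∈ V) {s : Γ(L, U)} (hs : IsFrame s) {t : Γ(L, V)} (ht : IsFrame t) :
    UnitOn A (U ⊓ V) (rho β hU s / rho β hV t) :=
  ⟨ratio_mem β hU hV s ht, by rw [inv_div, inf_comm]; exact ratio_mem β hV hU t hs⟩

/-- The pullback of a frame near the generic point. -/
def pullFrame {L : B.left.Modules} (β : GenFrame L) : GenFrame ((Scheme.Modules.pullback φ.left).obj L) :=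
  ⟨φ.left ⁻¹ᵁ β.U, pullElt φ.left β.e, InvX.isFrame_pullElt φ.left β.he, eta_preimage φ β.hη⟩

theorem rho_pullElt {L : B.left.Modules} (β : GenFrame L) {U : B.left.Opens} (hU : genericPoint B.left ∈ U)
    (e : Γ(L, U)) :
    rho (pullFrame φ β) (eta_preimage φ hU) (pullElt φ.left e) = ffMap φ (rho β hU e) := by
  have hW : genericPoint B.left ∈ U ⊓ β.U := ⟨hU, β.hη⟩
  obtain ⟨a, ha⟩ := β.he.exists_coord (inf_le_right : U ⊓ β.U ≤ β.U) (res L inf_le_left e)
  have h1 := congrArg (rho β hW) ha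
  rw [rho_smul, rho_res, rho_res, rho_self, mul_one] at h1
  have h2 := congrArg (pullElt φ.left) ha
  rw [Para81.pullElt_smul, Para81.pullElt_res, Para81.pullElt_res] at h2
  have h3 := congrArg (rho (pullFrame φ β) (eta_preimage φ hW)) h2
  rw [rho_smul, rho_res, rho_res, ← ffMap_gm φ hW, ← h1] at h3
  rw [h3, show rho (pullFrame φ β) _ (pullElt φ.left β.e) = 1 from rho_self (pullFrame φ β), mul_one]

/-- The rational function attached to a class killed by `φ^*` and by the `n`-th power. -/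
theorem exists_radical (hA : Function.Bijective A.hom.appTop) {L : B.left.Modules} (hL : PicF.IsInvertible L)
    (β : GenFrame L) (hφ : Triv ((Scheme.Modules.pullback φ.left).obj L)) {n : ℕ} (hn : Triv (CohB1.tensorPow L n)) :
    ∃ f : A.left.functionField, f ≠ 0 ∧ f ^ n ∈ (ffMap φ).range ∧
      ∀ (U : B.left.Opens) (hU : genericPoint B.left ∈ U) (e : Γ(L, U)), IsFrame e →
        UnitOn A (φ.left ⁻¹ᵁ U) (f / ffMap φ (rho β hU e)) := by
  obtain ⟨s, hs⟩ := hφ.exists_frame
  obtain ⟨t, ht⟩ := hn.exists_frame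
  let f := rho (pullFrame φ β) (U := ⊤) trivial s
  have hf : ∀ (U : B.left.Opens) (hU : genericPoint B.left ∈ U) (e : Γ(L, U)), IsFrame e →
      UnitOn A (φ.left ⁻¹ᵁ U) (f / ffMap φ (rho β hU e)) := fun U hU e he => by
    have := unitOn_ratio (pullFrame φ β) (U := ⊤) trivial (eta_preimage φ hU) hs (InvX.isFrame_pullElt φ.left he)
    rwa [rho_pullElt, top_inf_eq] at this
  refine ⟨f, rho_ne_zero _ _ hs, ?_, hf⟩
  let γ' : GenFrame (CohB1.tensorPow L n) := ⟨β.U, AmpleX.powElt β.e n, AmpleX.isFrame_powElt β.he n, β.hη⟩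
  let h := rho γ' (U := ⊤) trivial t
  have hloc : ∀ x : A.left, ∃ V : A.left.Opens, x ∈ V ∧ UnitOn A V (f ^ n / ffMap φ h) := fun x => by
    obtain ⟨U, hx, e, he⟩ := InvX.exists_frame hL (φ.left x)
    have hU : genericPoint B.left ∈ U := eta_mem B hx
    refine ⟨φ.left ⁻¹ᵁ U, hx, ?_⟩
    have h1 : UnitOn B U (rho β hU e ^ n / h) := by
      have := unitOn_ratio γ' hU (V := ⊤) trivial (AmpleX.isFrame_powElt he n) ht
      rwa [rho_pow, inf_top_eq] at this
    have h2 := ((hf U hU e he).pow n).mul (h1.pull φ hU)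
    rwa [map_div₀, map_pow, div_pow, div_mul_div_cancel₀ (pow_ne_zero _
      ((_root_.map_ne_zero _).2 (rho_ne_zero β hU he)))] at h2
  have hglob : f ^ n / ffMap φ h ∈ sect A ⊤ := mem_sect_of_local fun x _ => by
    obtain ⟨V, hV, hu⟩ := hloc x
    exact ⟨V, hV, hu.1⟩
  obtain ⟨a, ha⟩ := hglob trivial
  obtain ⟨r, rfl⟩ := hA.2 a
  obtain ⟨c, hc⟩ : ∃ c, B.hom.appTop r = c := ⟨_, rfl⟩
  refine ⟨h * gm ⊤ trivial c, ?_⟩
  rw [map_mul, ffMap_gm φ (U := ⊤) trivial, ← hc,
    show φ.left.app ⊤ (B.hom.appTop r) = A.hom.appTop r from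
      congrArg (fun m : A.left ⟶ Spec (CommRingCat.of k) => m.appTop r) (Over.w φ)]
  refine Eq.trans (congrArg (ffMap φ h * ·) ha) ?_
  rw [mul_div_cancel₀]
  exact (_root_.map_ne_zero _).2 (rho_ne_zero γ' _ ht)

/-- Regularity descends along a finite flat surjection. -/
theorem sect_descend [Flat φ.left] {U : B.left.Opens} {z : B.left.functionField}
    (hz : ffMap φ z ∈ sect A (φ.left ⁻¹ᵁ U)) : z ∈ sect B U := by
  refine mem_sect_of_local fun x hx => ?_
  obtain ⟨V, hV, hxV, hVU⟩ := exists_isAffineOpen_mem_and_subset hx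
  refine ⟨V, hxV, ?_⟩
  have hη : genericPoint B.left ∈ V := eta_mem B hxV
  have hz' : ffMap φ z ∈ sect A (φ.left ⁻¹ᵁ V) := sect_mono (φ.left.preimage_mono hVU) hz
  obtain ⟨c, hc⟩ := hz' (eta_preimage φ hη)
  obtain ⟨_, ha, _, hb, hb0, rfl⟩ := frac_sect hV hη z
  obtain ⟨a, rfl⟩ := ha hη
  obtain ⟨b, rfl⟩ := hb hη
  let R := Γ(B.left, V)
  let S := Γ(A.left, φ.left ⁻¹ᵁ V)
  letI : Algebra R S := (φ.left.app V).hom.toAlgebra
  haveI : Module.Finite R S := φ.left.finite_app _ hV
  haveI : Module.Flat R S := by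
    have := φ.left.flat_appLE hV (hV.preimage φ.left) le_rfl
    rwa [Scheme.Hom.appLE_eq_app] at this
  haveI : FaithfulSMul R S := (faithfulSMul_iff_algebraMap_injective R S).2 fun p q hpq => by
    refine gm_injective V hη ((ffMap φ).injective ?_)
    rw [ffMap_gm φ hη, ffMap_gm φ hη]
    exact congrArg _ hpq
  haveI : Module.FaithfullyFlat R S :=
    Module.FaithfullyFlat.of_comap_surjective (Algebra.IsIntegral.comap_surjective (R := R) (S := S))
  have h1 : algebraMap R S a = c * algebraMap R S b := by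
    refine gm_injective _ (eta_preimage φ hη) ?_
    rw [map_mul, hc, RingHom.algebraMap_toAlgebra, ← ffMap_gm φ hη, ← ffMap_gm φ hη, map_div₀,
      div_mul_cancel₀ _ ((_root_.map_ne_zero _).2 hb0)]
  have h2 : a ∈ (Ideal.map (algebraMap R S) (Ideal.span {b})).comap (algebraMap R S) := by
    rw [Ideal.mem_comap, Ideal.map_span, Set.image_singleton, Ideal.mem_span_singleton']
    exact ⟨c, h1.symm⟩
  rw [Ideal.comap_map_eq_self_of_faithfullyFlat, Ideal.mem_span_singleton'] at h2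
  obtain ⟨d, rfl⟩ := h2
  intro h
  exact ⟨d, by rw [map_mul, mul_div_cancel_right₀ _ hb0]⟩

/-- Classes whose radicals differ by a function from the base agree. -/
theorem nonempty_iso_of_radical [Flat φ.left] {L L' : B.left.Modules} (hL : PicF.IsInvertible L)
    (hL' : PicF.IsInvertible L') (β : GenFrame L) (β' : GenFrame L') {f f' : A.left.functionField}
    (hf0 : f ≠ 0) (hf0' : f' ≠ 0)
    (hf : ∀ (U : B.left.Opens) (hU : genericPoint B.left ∈ U) (e : Γ(L, U)), IsFrame e →
      UnitOn A (φ.left ⁻¹ᵁ U) (f / ffMap φ (rho β hU e)))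
    (hf' : ∀ (U : B.left.Opens) (hU : genericPoint B.left ∈ U) (e : Γ(L', U)), IsFrame e →
      UnitOn A (φ.left ⁻¹ᵁ U) (f' / ffMap φ (rho β' hU e)))
    (hr : f / f' ∈ (ffMap φ).range) : Nonempty (L ≅ L') := by
  obtain ⟨h, hh⟩ := hr
  choose U1 hx1 e1 he1 using InvX.exists_frame hL
  choose U2 hx2 e2 he2 using InvX.exists_frame hL'
  let U : B.left → B.left.Opens := fun x => U1 x ⊓ U2 x
  have hη : ∀ x, genericPoint B.left ∈ U x := fun x => eta_mem B (⟨hx1 x, hx2 x⟩ : x ∈ U x)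
  obtain ⟨e, he⟩ : ∃ e : ∀ x, Γ(L, U x), ∀ x, IsFrame (e x) :=
    ⟨fun x => res L inf_le_left (e1 x), fun x => (he1 x).res inf_le_left⟩
  obtain ⟨e', he'⟩ : ∃ e : ∀ x, Γ(L', U x), ∀ x, IsFrame (e x) :=
    ⟨fun x => res L' inf_le_right (e2 x), fun x => (he2 x).res inf_le_right⟩
  have hh0 : h ≠ 0 := by rintro rfl; exact div_ne_zero hf0 hf0' (hh.symm.trans (map_zero _))
  have hz : ∀ x, UnitOn B (U x) (rho β (hη x) (e x) / (rho β' (hη x) (e' x) * h)) := fun x => by
    have h3 : UnitOn A (φ.left ⁻¹ᵁ U x) (ffMap φ (rho β (hη x) (e x) / (rho β' (hη x) (e' x) * h))) := by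
      have := ((hf _ (hη x) _ (he x)).inv).mul (hf' _ (hη x) _ (he' x))
      rw [map_div₀, map_mul, hh]
      convert this using 1
      have := rho_ne_zero β (hη x) (he x)
      have := rho_ne_zero β' (hη x) (he' x)
      field_simp
    exact ⟨sect_descend φ h3.1, sect_descend φ (by rw [map_inv₀]; exact h3.2)⟩
  choose a ha using fun x => (hz x).1 (hη x)
  have hau : ∀ x, IsUnit (a x) := fun x => by
    obtain ⟨b, hb⟩ := (hz x).2 (hη x)
    refine IsUnit.of_mul_eq_one b (gm_injective _ (hη x) ?_)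
    rw [map_mul, map_one, hb, ha, mul_inv_cancel₀ (div_ne_zero (rho_ne_zero β _ (he x))
      (mul_ne_zero (rho_ne_zero β' _ (he' x)) hh0))]
  let s : ∀ x, Γ(L', U x) := fun x => a x • e' x
  have hs : ∀ x, IsFrame (s x) := fun x => (he' x).isUnit_smul (hau x)
  have hρ : ∀ x, rho β' (hη x) (s x) = rho β (hη x) (e x) / h := fun x => by
    rw [rho_smul, ha]
    have := rho_ne_zero β' (hη x) (he' x)
    field_simp
  refine Pn90.nonempty_iso_of_frames U (fun x => ⟨x, hx1 x, hx2 x⟩) e s he hs fun x y => ?_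
  have hxy : genericPoint B.left ∈ U x ⊓ U y := ⟨hη x, hη y⟩
  obtain ⟨t, ht⟩ := (he y).exists_coord (inf_le_right : U x ⊓ U y ≤ U y) (res L inf_le_left (e x))
  refine ⟨U x ⊓ U y, inf_le_left, inf_le_right, le_rfl, t, ht, ?_⟩
  have h1 := congrArg (rho β hxy) ht
  rw [rho_smul, rho_res, rho_res] at h1
  obtain ⟨t', ht'⟩ := (hs y).exists_coord (inf_le_right : U x ⊓ U y ≤ U y) (res L' inf_le_left (s x))
  have h2 := congrArg (rho β' hxy) ht'
  rw [rho_smul, rho_res, rho_res, hρ, hρ, h1, mul_div_assoc] at h2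
  rwa [gm_injective _ hxy (mul_right_cancel₀ (div_ne_zero (rho_ne_zero β _ (he y)) hh0) h2)]

end Groth.Agent.AVRed
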